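import Cfsg.Agent.H834.Sax.Nine
import Cfsg.Agent.H304.L62
import Cfsg.Agent.H809.SelfCentLin
import Cfsg.Agent.H732.SelfCent
import Cfsg.Agent.H359.SpSix
import Cfsg.Agent.Involutions.IndexFive
import Cfsg.Agent.S0243
import Cfsg.Agent.S0270

/-!
# `OGMax` for `L₆(2)` and `Sp₆(2)` (helper834)

* `pgap_l62` : a proper subgroup of `L₆(2)` misses a prime or has order `9999360` or `319979520`;
* `pgap_sp62` : a proper subgroup of `Sp₆(2)` misses a prime or has order in `[2520, 5040, 20160, 40320, 161280]`;
* `ogMax_l62`, `ogMax_sp62`.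
-/

set_option autoImplicit false

namespace Cfsg.Agent.H834.Sax

open Subgroup Cfsg Matrix Cfsg.Agent.H970.StabNum Cfsg.Agent.H251.Small Cfsg.Agent.H938.Sax
open Cfsg.Agent.OrdDiv Cfsg.Agent.H58.Rec

variable {F : Type} [Field F] [Fintype F]

def l62 : List (ℕ × ℕ) := [(2, 15), (3, 4), (5, 1), (7, 2), (31, 1)]
def sp62 : List (ℕ × ℕ) := [(2, 9), (3, 4), (5, 1), (7, 1)]

theorem card_l62 (hF : Fintype.card F = 2) :
    Nat.card (Matrix.ProjectiveSpecialLinearGroup (Fin 6) F) = 20158709760 := by
  have h := Cfsg.Agent.S0243.result (F := F) hF 6 (by norm_num)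
  have e1 : ∏ i : Fin 6, (2 ^ 6 - 2 ^ (i : ℕ)) = 20158709760 := by rfl
  rw [e1] at h
  norm_num at h
  exact h

theorem card_sp62 (hF : Fintype.card F = 2) : Nat.card (PSp 3 F) = 1451520 := by
  have h := H732.SelfCent.card_psp hF (n := 3) (by norm_num)
  simp only [Finset.prod_range_succ, Finset.prod_range_zero] at h
  norm_num at h
  omega

theorem nine_l62 (hF : Fintype.card F = 2) : ∃ g : Matrix.ProjectiveSpecialLinearGroup (Fin 6) F, orderOf g = 9 := by
  obtain ⟨g, h9, h3⟩ := H304.L62.exists_nine hF
  have hinj := H304.L62.pr_injective (n := 6) hF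
  have hf : Fact (Nat.Prime 3) := ⟨Nat.prime_three⟩
  refine ⟨H304.PslT.pr 6 F g, orderOf_eq_prime_pow (p := 3) (n := 1) ?_ ?_⟩
  · intro h
    rw [pow_one, ← map_pow] at h
    exact h3 (hinj (by rw [h, map_one]))
  · rw [← map_pow, show 3 ^ (1 + 1) = 9 by norm_num, h9, map_one]

theorem nine_sp62 (hF : Fintype.card F = 2) : ∃ g : PSp 3 F, orderOf g = 9 := by
  obtain ⟨eS⟩ := Cfsg.Agent.StandardComponent.SpTwoAut.exists_equiv hF
  obtain ⟨g, hg⟩ := H359.SpSix.hall 9 (by decide)
  exact ⟨eS.symm g, by rw [MulEquiv.orderOf_eq, hg]⟩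

variable (OT : OrderTable.{0}) (hS : ∀ (X : Type) [Group X] [Finite X] [IsSimpleGroup X], Cfsg.IsKnownSimple' X)

include OT hS

theorem data_l62 (hF : Fintype.card F = 2) :
    H970.StabNum.Data (Matrix.ProjectiveSpecialLinearGroup (Fin 6) F) [(31, 1, 5)] [2, 3, 5, 7]
      ((cands l62 20158709760).map ordN) := by
  have hcard : Nat.card (Matrix.ProjectiveSpecialLinearGroup (Fin 6) F) = 20158709760 := card_l62 hF
  have hfin : Finite (Matrix.ProjectiveSpecialLinearGroup (Fin 6) F) :=
    Nat.finite_of_card_ne_zero (by rw [hcard]; norm_num)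
  refine H970.TwoSpor.mk_data OT hS hcard (l := l62) (by decide +kernel)
    (by decide +kernel) ?_ ?_ (by decide +kernel) ?_
  · intro x hx
    simp only [List.mem_cons, List.not_mem_nil, or_false] at hx
    subst hx
    norm_num
  · intro r hr
    simp only [List.mem_cons, List.not_mem_nil, or_false] at hr
    rcases hr with rfl | rfl | rfl | rfl <;> norm_num
  · intro x hx P hP
    simp only [List.mem_cons, List.not_mem_nil, or_false] at hx
    subst hx
    refine cent_norm (by norm_num) (by rw [hcard]; norm_num)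
      (Cfsg.Agent.H809.SelfCent.psl_selfcent 6 2 31 (by decide) F hF) ?_ P hP
    intro m hm _ hmod
    rw [hcard] at hmod
    have h1 : m ∈ Nat.divisors 30 := Nat.mem_divisors.2 ⟨hm, by norm_num⟩
    rw [show Nat.divisors 30 = {1, 2, 3, 5, 6, 10, 15, 30} by decide] at h1
    simp only [Finset.mem_insert, Finset.mem_singleton] at h1
    rcases h1 with rfl | rfl | rfl | rfl | rfl | rfl | rfl | rfl
    all_goals first | (norm_num; done) | (exfalso; norm_num at hmod; done)

theorem data_sp62 (hF : Fintype.card F = 2) :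
    H970.StabNum.Data (PSp 3 F) [(7, 1, 6)] [2, 3, 5] ((cands sp62 1451520).map ordN) := by
  have hcard := card_sp62 hF
  have hfin : Finite (PSp 3 F) := Nat.finite_of_card_ne_zero (by rw [hcard]; norm_num)
  refine H970.TwoSpor.mk_data OT hS hcard (l := sp62) (by decide +kernel)
    (by decide +kernel) ?_ ?_ (by decide +kernel) ?_
  · intro x hx
    simp only [List.mem_cons, List.not_mem_nil, or_false] at hx
    subst hx
    norm_num
  · intro r hr
    simp only [List.mem_cons, List.not_mem_nil, or_false] at hr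
    rcases hr with rfl | rfl | rfl <;> norm_num
  · intro x hx P hP
    simp only [List.mem_cons, List.not_mem_nil, or_false] at hx
    subst hx
    refine cent_norm (by norm_num) (by rw [hcard]; norm_num)
      (H732.SelfCent.psp_selfcent 3 2 7 (by decide) F hF) ?_ P hP
    intro m hm _ _
    exact hm

/-- A proper subgroup of `L₆(2)` misses a prime or has order `9999360` or `319979520`. -/
theorem pgap_l62 (hF : Fintype.card F = 2) (M : Subgroup (Matrix.ProjectiveSpecialLinearGroup (Fin 6) F))
    (hM : M ≠ ⊤) : PGap (Matrix.ProjectiveSpecialLinearGroup (Fin 6) F) M ∨ Nat.card M = 9999360 ∨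
      Nat.card M = 319979520 := by
  have hcard : Nat.card (Matrix.ProjectiveSpecialLinearGroup (Fin 6) F) = 20158709760 := card_l62 hF
  have hfin : Finite (Matrix.ProjectiveSpecialLinearGroup (Fin 6) F) :=
    Nat.finite_of_card_ne_zero (by rw [hcard]; norm_num)
  have h := pgap_or_mem (data_l62 OT hS hF) (l := l62) (prs := [2, 3, 5, 7, 31])
    (sl := [9999360, 319979520, 20158709760]) hcard (by decide +kernel) (by
      intro r hr
      simp only [List.mem_cons, List.not_mem_nil, or_false] at hr
      rcases hr with rfl | rfl | rfl | rfl | rfl <;> norm_num) (by decide +kernel) M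
  simp only [List.mem_cons, List.not_mem_nil, or_false] at h
  rcases h with h | h | h | h
  · exact Or.inl h
  · exact Or.inr (Or.inl h)
  · exact Or.inr (Or.inr h)
  · exact absurd (Subgroup.eq_top_of_card_eq M (by rw [h, hcard])) hM

/-- A proper subgroup of `Sp₆(2)` misses a prime or has order in `[2520, 5040, 20160, 40320, 161280]`. -/
theorem pgap_sp62 (hF : Fintype.card F = 2) (M : Subgroup (PSp 3 F)) (hM : M ≠ ⊤) :
    PGap (PSp 3 F) M ∨ Nat.card M ∈ [2520, 5040, 20160, 40320, 161280] := by
  have hcard := card_sp62 hF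
  have hfin : Finite (PSp 3 F) := Nat.finite_of_card_ne_zero (by rw [hcard]; norm_num)
  have h := pgap_or_mem (data_sp62 OT hS hF) (l := sp62) (prs := [2, 3, 5, 7])
    (sl := [2520, 5040, 20160, 181440, 40320, 161280, 1451520]) hcard (by decide +kernel) (by
      intro r hr
      simp only [List.mem_cons, List.not_mem_nil, or_false] at hr
      rcases hr with rfl | rfl | rfl | rfl <;> norm_num) (by decide +kernel) M
  have hne : Nat.card M ≠ 1451520 := fun h1 => hM (Subgroup.eq_top_of_card_eq M (by rw [h1, hcard]))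
  have hne2 : Nat.card M ≠ 181440 := by
    intro h1
    have hs : IsSimpleGroup (PSp 3 F) := S0270.result (F := F) 3 (by norm_num) (by norm_num)
    have h2 := M.card_mul_index
    rw [h1, hcard] at h2
    have h3 : M.index = 8 := by omega
    have h4 := Cfsg.Agent.Involutions.IndexFive.card_dvd_factorial_index M hM
    rw [h3, hcard] at h4
    revert h4
    decide
  rcases h with h | h
  · exact Or.inl h
  · right
    simp only [List.mem_cons, List.not_mem_nil, or_false] at h ⊢
    omega

theorem ogMax_l62 (hF : Fintype.card F = 2) : OGMax (Matrix.ProjectiveSpecialLinearGroup (Fin 6) F) := by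
  have hcard : Nat.card (Matrix.ProjectiveSpecialLinearGroup (Fin 6) F) = 20158709760 := card_l62 hF
  have hfin : Finite (Matrix.ProjectiveSpecialLinearGroup (Fin 6) F) :=
    Nat.finite_of_card_ne_zero (by rw [hcard]; norm_num)
  intro M hM
  have key : ∀ h : ℕ, Nat.card M = h → h % 31 = 0 →
      okS 31 1 5 [2, 3, 5, 7] ((cands l62 20158709760).map ordN) [9999360] h 9 = true →
      OrdGap (Matrix.ProjectiveSpecialLinearGroup (Fin 6) F) M := by
    intro h hh h5 hok
    obtain ⟨g, hg⟩ := nine_l62 hF
    refine ordGap_of hg fun m hm ho => ?_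
    obtain ⟨K, _, _, hK, hna, hc, h9K⟩ := exists_simple_of (data_l62 OT hS hF) M (by simp) hh h5 (by decide) hok
      ⟨m, hm, ho⟩
    rw [List.mem_singleton] at hc
    exact no_nine_9999360 OT hS hK hna hc h9K
  rcases pgap_l62 OT hS hF M hM.1 with h | h | h
  · exact h.ordGap
  · exact key _ h (by norm_num) (by decide +kernel)
  · exact key _ h (by norm_num) (by decide +kernel)

theorem ogMax_sp62 (hF : Fintype.card F = 2) : OGMax (PSp 3 F) := by
  have hcard := card_sp62 hF
  have hfin : Finite (PSp 3 F) := Nat.finite_of_card_ne_zero (by rw [hcard]; norm_num)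
  intro M hM
  have key : ∀ h : ℕ, Nat.card M = h → h % 7 = 0 →
      okS 7 1 6 [2, 3, 5] ((cands sp62 1451520).map ordN) [2520, 20160] h 9 = true → OrdGap (PSp 3 F) M := by
    intro h hh h5 hok
    obtain ⟨g, hg⟩ := nine_sp62 hF
    refine ordGap_of hg fun m hm ho => ?_
    obtain ⟨K, _, _, hK, hna, hc, h9K⟩ := exists_simple_of (data_sp62 OT hS hF) M (by simp) hh h5 (by decide) hok
      ⟨m, hm, ho⟩
    simp only [List.mem_cons, List.not_mem_nil, or_false] at hc
    rcases hc with hc | hc
    · exact no_nine_2520 OT hS hK hna hc h9K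
    · exact no_nine_20160 OT hS hK hna hc h9K
  rcases pgap_sp62 OT hS hF M hM.1 with h | h
  · exact h.ordGap
  · simp only [List.mem_cons, List.not_mem_nil, or_false] at h
    rcases h with h | h | h | h | h
    · exact key _ h (by norm_num) (by decide +kernel)
    · exact key _ h (by norm_num) (by decide +kernel)
    · exact key _ h (by norm_num) (by decide +kernel)
    · exact key _ h (by norm_num) (by decide +kernel)
    · exact key _ h (by norm_num) (by decide +kernel)

end Cfsg.Agent.H834.Sax
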