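import Cfsg.Agent.H834.Sax.Nine
import Cfsg.Agent.H251.Small.Main
import Cfsg.Agent.H402.LwU43
import Cfsg.Agent.H852.USixElts
import Cfsg.Agent.H180.KM11Cube

/-!
# `OGMax` for the small unitary groups (helper834)

* `pgap_u33`, `pgap_u35` : proper subgroups of `U₃(3)`, `U₃(5)` miss a prime or have order `168`, `2520`;
* `ogMax_u33`, `ogMax_u35`, `ogMax_u42`, `ogMax_u43`, `ogMax_u5`, `ogMax_u6`.
-/

set_option autoImplicit false

namespace Cfsg.Agent.H834.Sax

open Subgroup Cfsg Matrix Cfsg.Agent.H970.StabNum Cfsg.Agent.H251.Small Cfsg.Agent.H938.Sax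
open Cfsg.Agent.OrdDiv Cfsg.Agent.H58.Rec
open Cfsg.Agent.LieClassical.HermSiegel Cfsg.Agent.LieClassical.SUBasic
open Cfsg.Agent.ClassicalGeometry.PSUAutBasic

variable {F : Type} [Field F] [Fintype F]

theorem card_u33 (hF : Fintype.card F = 3 ^ 2) : Nat.card (PSU 3 F 3) = 6048 := by
  have h := S0280.result hF 3 (by norm_num)
  rw [show Nat.gcd 3 (3 + 1) = 1 by decide] at h
  simp only [Finset.prod_range_succ, Finset.prod_range_zero] at h
  norm_num [Nat.even_iff] at h
  omega

theorem card_u35 (hF : Fintype.card F = 5 ^ 2) : Nat.card (PSU 3 F 5) = 126000 := by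
  have h := S0280.result hF 3 (by norm_num)
  rw [show Nat.gcd 3 (5 + 1) = 3 by decide] at h
  simp only [Finset.prod_range_succ, Finset.prod_range_zero] at h
  norm_num [Nat.even_iff] at h
  omega

theorem eight_u33 (hF : Fintype.card F = 3 ^ 2) : ∃ g : PSU 3 F 3, orderOf g = 2 ^ 3 := by
  have : Fact (Nat.Prime 3) := ⟨Nat.prime_three⟩
  have : CharP F 3 := H455.NoNine.charP_of_card (k := 2) Nat.prime_three hF
  have h1 := Cfsg.Agent.S2366.result (F := F) 3 (by norm_num) 3 hF
  have h2 : (8 : ℕ) ∈ Set.range (orderOf : PSU 3 F 3 → ℕ) := by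
    rw [h1]
    left; right
    show 8 ∣ (3 ^ 2 - 1) / Nat.gcd 3 (3 + 1)
    norm_num
  exact h2

theorem eight_u35 (hF : Fintype.card F = 5 ^ 2) : ∃ g : PSU 3 F 5, orderOf g = 2 ^ 3 := by
  have : Fact (Nat.Prime 5) := ⟨by norm_num⟩
  have : CharP F 5 := H455.NoNine.charP_of_card (k := 2) (by norm_num) hF
  have h1 := Cfsg.Agent.S2366.result (F := F) 5 (by norm_num) 5 hF
  have h2 : (8 : ℕ) ∈ Set.range (orderOf : PSU 3 F 5 → ℕ) := by
    rw [h1]
    left; right
    show 8 ∣ (5 ^ 2 - 1) / Nat.gcd 3 (5 + 1)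
    norm_num
  exact h2

/-- an element of order `9` in `U₅(2)` -/
theorem nine_u5 (hF : Fintype.card F = 2 ^ 2) : ∃ g : PSU 5 F 2, orderOf g = 9 := by
  obtain ⟨w, h3, h1, h0, hw, h2⟩ := exists_omega hF
  have hd : ∏ i, (![w, 1, 1, w * w, 1] : Fin 5 → F) i = 1 := by
    simp [Fin.prod_univ_five]
    linear_combination h3
  have ha : ∀ i, (![w, 1, 1, w * w, 1] : Fin 5 → F) i ^ (2 + 1) = 1 := by
    intro i
    fin_cases i <;> simp [h3, mul_pow]
  let g : SU 5 F 2 := suDiag 2 _ hd ha * suPerm 2 (c[0, 1, 2] : Equiv.Perm (Fin 5)) (by decide +kernel)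
  have hp : ∀ i j, ((c[0, 1, 2] : Equiv.Perm (Fin 5)).permMatrix F) i j =
      if (c[0, 1, 2] : Equiv.Perm (Fin 5)) i = j then 1 else 0 := by
    intro i j
    rw [Equiv.Perm.permMatrix, PEquiv.toMatrix_apply]
    simp [Equiv.toPEquiv, eq_comm]
  have q0 : (c[0, 1, 2] : Equiv.Perm (Fin 5)) 0 = 1 := by decide +kernel
  have q1 : (c[0, 1, 2] : Equiv.Perm (Fin 5)) 1 = 2 := by decide +kernel
  have q2 : (c[0, 1, 2] : Equiv.Perm (Fin 5)) 2 = 0 := by decide +kernel
  have q3 : (c[0, 1, 2] : Equiv.Perm (Fin 5)) 3 = 3 := by decide +kernel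
  have q4 : (c[0, 1, 2] : Equiv.Perm (Fin 5)) 4 = 4 := by decide +kernel
  have hg : mat g = !![0, w, 0, 0, 0; 0, 0, 1, 0, 0; 1, 0, 0, 0, 0; 0, 0, 0, w * w, 0; 0, 0, 0, 0, 1] := by
    change mat (suDiag 2 _ hd ha * suPerm 2 (c[0, 1, 2] : Equiv.Perm (Fin 5)) (by decide +kernel)) = _
    rw [mat_mul, mat_suDiag]
    change Matrix.diagonal _ * (c[0, 1, 2] : Equiv.Perm (Fin 5)).permMatrix F = _
    ext i j
    rw [Matrix.diagonal_mul, hp]
    fin_cases i <;> fin_cases j <;> simp [q0, q1, q2, q3, q4]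
  have hg3 : mat (g ^ 3) = Matrix.diagonal ![w, w, w, 1, 1] := by
    rw [pow_succ, pow_two, mat_mul, mat_mul, hg]
    ext i j
    fin_cases i <;> fin_cases j <;> simp [Matrix.mul_apply, Fin.sum_univ_five]
    linear_combination (w ^ 3 + 1) * h3
  have hg9 : g ^ 9 = 1 := by
    apply mat_injective
    rw [show g ^ 9 = g ^ 3 * g ^ 3 * g ^ 3 by group, mat_mul, mat_mul, hg3, mat_one, Matrix.diagonal_mul_diagonal,
      Matrix.diagonal_mul_diagonal, ← Matrix.diagonal_one]
    congr 1
    funext i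
    fin_cases i <;> simp <;> linear_combination h3
  have hf : Fact (Nat.Prime 3) := ⟨Nat.prime_three⟩
  refine ⟨pr 5 F 2 g, orderOf_eq_prime_pow (p := 3) (n := 1) ?_ ?_⟩
  · intro h
    rw [pow_one, ← map_pow] at h
    obtain ⟨c, hc4, hc3, h4⟩ := mat_pr hF (by norm_num) (h.trans (map_one (pr 5 F 2)).symm)
    rw [mat_one, hg3] at h4
    have h5 := congrFun (congrFun h4 0) 0
    have h6 := congrFun (congrFun h4 3) 3
    simp at h5 h6
    rw [← h6, one_mul] at h5
    exact h1 h5.symm
  · rw [← map_pow]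
    change pr 5 F 2 (g ^ 9) = 1
    rw [hg9, map_one]

variable (OT : OrderTable.{0}) (hS : ∀ (X : Type) [Group X] [Finite X] [IsSimpleGroup X], Cfsg.IsKnownSimple' X)

include OT hS

theorem data_u33 (hF : Fintype.card F = 3 ^ 2) :
    H970.StabNum.Data (PSU 3 F 3) [(7, 1, 3)] [2, 3] ((cands [(2, 5), (3, 3), (7, 1)] 6048).map ordN) := by
  have hcard := card_u33 hF
  have hfin : Finite (PSU 3 F 3) := Nat.finite_of_card_ne_zero (by rw [hcard]; norm_num)
  refine H970.TwoSpor.mk_data OT hS hcard (l := [(2, 5), (3, 3), (7, 1)]) (by decide +kernel)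
    (by decide +kernel) ?_ ?_ (by decide +kernel) ?_
  · intro x hx
    simp only [List.mem_cons, List.not_mem_nil, or_false] at hx
    subst hx
    norm_num
  · intro r hr
    simp only [List.mem_cons, List.not_mem_nil, or_false] at hr
    rcases hr with rfl | rfl <;> norm_num
  · intro x hx P hP
    simp only [List.mem_cons, List.not_mem_nil, or_false] at hx
    subst hx
    refine cent_norm (by norm_num) (by rw [hcard]; norm_num)
      (Cfsg.Agent.H809.SelfCent.psu_selfcent 3 3 7 (by decide) F hF) ?_ P hP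
    intro m hm _ hmod
    rw [hcard] at hmod
    have h1 : m ∈ Nat.divisors 6 := Nat.mem_divisors.2 ⟨hm, by norm_num⟩
    rw [show Nat.divisors 6 = {1, 2, 3, 6} by decide] at h1
    simp only [Finset.mem_insert, Finset.mem_singleton] at h1
    rcases h1 with rfl | rfl | rfl | rfl
    all_goals first | (norm_num; done) | (exfalso; norm_num at hmod; done)

theorem data_u35 (hF : Fintype.card F = 5 ^ 2) :
    H970.StabNum.Data (PSU 3 F 5) [(7, 1, 3)] [2, 3, 5]
      ((cands [(2, 4), (3, 2), (5, 3), (7, 1)] 126000).map ordN) := by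
  have hcard := card_u35 hF
  have hfin : Finite (PSU 3 F 5) := Nat.finite_of_card_ne_zero (by rw [hcard]; norm_num)
  refine H970.TwoSpor.mk_data OT hS hcard (l := [(2, 4), (3, 2), (5, 3), (7, 1)]) (by decide +kernel)
    (by decide +kernel) ?_ ?_ (by decide +kernel) ?_
  · intro x hx
    simp only [List.mem_cons, List.not_mem_nil, or_false] at hx
    subst hx
    norm_num
  · intro r hr
    simp only [List.mem_cons, List.not_mem_nil, or_false] at hr
    rcases hr with rfl | rfl | rfl <;> norm_num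
  · intro x hx P hP
    simp only [List.mem_cons, List.not_mem_nil, or_false] at hx
    subst hx
    refine cent_norm (by norm_num) (by rw [hcard]; norm_num)
      (Cfsg.Agent.H809.SelfCent.psu_selfcent 3 5 7 (by decide) F hF) ?_ P hP
    intro m hm _ hmod
    rw [hcard] at hmod
    have h1 : m ∈ Nat.divisors 6 := Nat.mem_divisors.2 ⟨hm, by norm_num⟩
    rw [show Nat.divisors 6 = {1, 2, 3, 6} by decide] at h1
    simp only [Finset.mem_insert, Finset.mem_singleton] at h1
    rcases h1 with rfl | rfl | rfl | rfl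
    all_goals first | (norm_num; done) | (exfalso; norm_num at hmod; done)

/-- A proper subgroup of `U₃(3)` misses a prime or has order `168`. -/
theorem pgap_u33 (hF : Fintype.card F = 3 ^ 2) (M : Subgroup (PSU 3 F 3)) (hM : M ≠ ⊤) :
    PGap (PSU 3 F 3) M ∨ Nat.card M = 168 := by
  have hcard := card_u33 hF
  have hfin : Finite (PSU 3 F 3) := Nat.finite_of_card_ne_zero (by rw [hcard]; norm_num)
  have h := pgap_or_mem (data_u33 OT hS hF) (l := [(2, 5), (3, 3), (7, 1)]) (prs := [2, 3, 7])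
    (sl := [168, 6048]) hcard (by decide +kernel) (by
      intro r hr
      simp only [List.mem_cons, List.not_mem_nil, or_false] at hr
      rcases hr with rfl | rfl | rfl <;> norm_num) (by decide +kernel) M
  simp only [List.mem_cons, List.not_mem_nil, or_false] at h
  rcases h with h | h | h
  · exact Or.inl h
  · exact Or.inr h
  · exact absurd (Subgroup.eq_top_of_card_eq M (by rw [h, hcard])) hM

/-- A proper subgroup of `U₃(5)` misses a prime or has order `2520`. -/
theorem pgap_u35 (hF : Fintype.card F = 5 ^ 2) (M : Subgroup (PSU 3 F 5)) (hM : M ≠ ⊤) :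
    PGap (PSU 3 F 5) M ∨ Nat.card M = 2520 := by
  have hcard := card_u35 hF
  have hfin : Finite (PSU 3 F 5) := Nat.finite_of_card_ne_zero (by rw [hcard]; norm_num)
  have h := pgap_or_mem (data_u35 OT hS hF) (l := [(2, 4), (3, 2), (5, 3), (7, 1)]) (prs := [2, 3, 5, 7])
    (sl := [2520, 126000]) hcard (by decide +kernel) (by
      intro r hr
      simp only [List.mem_cons, List.not_mem_nil, or_false] at hr
      rcases hr with rfl | rfl | rfl | rfl <;> norm_num) (by decide +kernel) M
  simp only [List.mem_cons, List.not_mem_nil, or_false] at h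
  rcases h with h | h | h
  · exact Or.inl h
  · exact Or.inr h
  · exact absurd (Subgroup.eq_top_of_card_eq M (by rw [h, hcard])) hM

theorem ogMax_u33 (hF : Fintype.card F = 3 ^ 2) : OGMax (PSU 3 F 3) := by
  have hcard := card_u33 hF
  have hfin : Finite (PSU 3 F 3) := Nat.finite_of_card_ne_zero (by rw [hcard]; norm_num)
  intro M hM
  rcases pgap_u33 OT hS hF M hM.1 with h | h
  · exact h.ordGap
  · obtain ⟨g, hg⟩ := eight_u33 hF
    refine ordGap_of hg ?_
    refine no_order_two (k := 3) (data_u33 OT hS hF) (l := [(2, 5), (3, 3), (7, 1)])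
      (prs := [2, 3, 7]) (by rw [hcard]; decide +kernel) M (by norm_num) h (by norm_num) ?_ (by decide +kernel)
    intro r hr
    simp only [List.mem_cons, List.not_mem_nil, or_false] at hr
    rcases hr with rfl | rfl | rfl <;> norm_num

theorem ogMax_u35 (hF : Fintype.card F = 5 ^ 2) : OGMax (PSU 3 F 5) := by
  have hcard := card_u35 hF
  have hfin : Finite (PSU 3 F 5) := Nat.finite_of_card_ne_zero (by rw [hcard]; norm_num)
  intro M hM
  rcases pgap_u35 OT hS hF M hM.1 with h | h
  · exact h.ordGap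
  · obtain ⟨g, hg⟩ := eight_u35 hF
    refine ordGap_of hg ?_
    refine no_order_two (k := 3) (data_u35 OT hS hF) (l := [(2, 4), (3, 2), (5, 3), (7, 1)])
      (prs := [2, 3, 5, 7]) (by rw [hcard]; decide +kernel) M (by norm_num) h (by norm_num) ?_ (by decide +kernel)
    intro r hr
    simp only [List.mem_cons, List.not_mem_nil, or_false] at hr
    rcases hr with rfl | rfl | rfl | rfl <;> norm_num

theorem ogMax_u42 (hF : Fintype.card F = 2 ^ 2) : OGMax (PSU 4 F 2) := by
  have hcard := card_u42 hF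
  have hfin : Finite (PSU 4 F 2) := Nat.finite_of_card_ne_zero (by rw [hcard]; norm_num)
  intro M hM
  rcases pgap_u42 OT hS hF M hM.1 with h | h
  · exact h.ordGap
  obtain ⟨g, hg⟩ := nine_u42 hF
  refine ordGap_of hg fun m hm ho => ?_
  have h9 : 9 ∣ Nat.card M := by
    rw [← ho, ← Subgroup.orderOf_mk m hm]
    exact orderOf_dvd_natCard _
  have hv : valid [(2, 6), (3, 4), (5, 1)] 25920 = true := by decide +kernel
  have D : H970.StabNum.Data (PSU 4 F 2) [(5, 1, 4)] [2, 3] [60, 360, 25920] := by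
    refine H970.TwoSpor.mk_data OT hS hcard hv (by decide +kernel) ?_ ?_ (by decide +kernel) ?_
    · intro x hx
      simp only [List.mem_cons, List.not_mem_nil, or_false] at hx
      subst hx
      norm_num
    · intro r hr
      simp only [List.mem_cons, List.not_mem_nil, or_false] at hr
      rcases hr with rfl | rfl <;> norm_num
    · intro x hx P hP
      simp only [List.mem_cons, List.not_mem_nil, or_false] at hx
      subst hx
      exact cn_u42 hF P hP
  have key : ∀ h : ℕ, Nat.card M = h → h % 5 = 0 → okS 5 1 4 [2, 3] [60, 360, 25920] [360] h 9 = true → False := by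
    intro h hh h5 hok
    obtain ⟨K, _, _, hK, hna, hc, h9K⟩ := exists_simple_of D M (by simp) hh h5 (by decide) hok ⟨m, hm, ho⟩
    rw [List.mem_singleton] at hc
    exact no_nine_360 OT hS hK hna hc h9K
  simp only [List.mem_cons, List.not_mem_nil, or_false] at h
  rcases h with h | h | h | h | h
  · rw [h] at h9; norm_num at h9
  · rw [h] at h9; norm_num at h9
  · exact key _ h (by norm_num) (by decide +kernel)
  · exact key _ h (by norm_num) (by decide +kernel)
  · rw [h] at h9; norm_num at h9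

theorem ogMax_u43 (hF : Fintype.card F = 3 ^ 2) : OGMax (PSU 4 F 3) := by
  have h9 : Fintype.card F = 9 := by rw [hF]; norm_num
  have hcard := H844.USeven.card_psu h9
  have hfin : Finite (PSU 4 F 3) := Nat.finite_of_card_ne_zero (by rw [hcard]; norm_num)
  intro M hM
  rcases pgap_u43 OT hS hF M hM.1 with h | ⟨⟨e⟩⟩ | ⟨K, _, _, hK, ⟨e⟩⟩
  · exact h.ordGap
  · obtain ⟨g, hg⟩ := Cfsg.Agent.H402.U43.exists_8 hF
    refine ordGap_of hg fun m hm ho => ?_
    have h1 := H380.AltSpec.orderOf_mem_T (e ⟨m, hm⟩)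
    rw [MulEquiv.orderOf_eq, Subgroup.orderOf_mk, ho] at h1
    revert h1
    decide +kernel
  · obtain ⟨g, hg⟩ := Cfsg.Agent.H402.U43.exists_8 hF
    refine ordGap_of hg fun m hm ho => ?_
    have : Fact (Nat.Prime 2) := ⟨Nat.prime_two⟩
    have : CharP K 2 := H455.NoNine.charP_of_card (k := 2) Nat.prime_two (by rw [hK]; norm_num)
    have h1 := Cfsg.Agent.S2476.result (F := K) 2
    have h2 : (8 : ℕ) ∈ Set.range (orderOf : Matrix.ProjectiveSpecialLinearGroup (Fin 3) K → ℕ) :=
      ⟨e ⟨m, hm⟩, by rw [MulEquiv.orderOf_eq, Subgroup.orderOf_mk, ho]⟩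
    rw [h1, hK] at h2
    revert h2
    simp only [Set.mem_setOf_eq]
    norm_num

theorem ogMax_u5 (hF : Fintype.card F = 2 ^ 2) : OGMax (PSU 5 F 2) := by
  have hcard := card_u5 hF
  have hfin : Finite (PSU 5 F 2) := Nat.finite_of_card_ne_zero (by rw [hcard]; norm_num)
  intro M hM
  rcases pgap_u5 OT hS hF M hM.1 with h | ⟨hs, h⟩
  · exact h.ordGap
  obtain ⟨g, hg⟩ := nine_u5 hF
  refine ordGap_of hg fun m hm ho => ?_
  rcases h with h | h
  · have h9 : 9 ∣ Nat.card M := by
      rw [← ho, ← Subgroup.orderOf_mk m hm]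
      exact orderOf_dvd_natCard _
    rw [h] at h9
    norm_num at h9
  · have hna : ¬ ∀ x y : M, x * y = y * x := by
      intro hc
      have : IsMulCommutative M := ⟨⟨hc⟩⟩
      have hp : (Nat.card M).Prime := by
        let _ : CommGroup M := { (inferInstance : Group M) with mul_comm := hc }
        exact IsSimpleGroup.prime_card
      rw [h] at hp
      revert hp
      norm_num
    obtain ⟨g', hg', hr⟩ := exists_real_filter OT (hS M) hna (l := [(2, 4), (3, 2), (5, 1), (11, 1)])
      (N := 7920) (by decide +kernel) (by rw [h]) (fun o => Nat.beq o 7920) (by rw [h]; rfl)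
    rw [show ((cands [(2, 4), (3, 2), (5, 1), (11, 1)] 7920).filter fun g => Nat.beq (ordN g) 7920) =
      [.m11] by decide +kernel] at hg'
    rw [List.mem_singleton] at hg'
    subst hg'
    have h1 := Cfsg.Agent.H180.KM11.orders hr (⟨m, hm⟩ : M)
    rw [Subgroup.orderOf_mk, ho] at h1
    revert h1
    decide

theorem ogMax_u6 (hF : Fintype.card F = 2 ^ 2) : OGMax (PSU 6 F 2) := by
  have hcard := card_u6 hF
  have hfin : Finite (PSU 6 F 2) := Nat.finite_of_card_ne_zero (by rw [hcard]; norm_num)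
  intro M hM
  rcases pgap_u6 OT hS hF M hM.1 with h | ⟨⟨e⟩⟩
  · exact h.ordGap
  obtain ⟨g, hg⟩ := Cfsg.Agent.H852.USixElts.exists_nine (F := F) (by rw [hF]; norm_num)
  refine ordGap_of hg fun m hm ho => ?_
  refine H455.NoNine.m22 (e ⟨m, hm⟩) ?_
  rw [MulEquiv.orderOf_eq, Subgroup.orderOf_mk, ho]

end Cfsg.Agent.H834.Sax
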