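import Cfsg.Agent.H834.Sax.Tool
import Cfsg.Agent.H719.RowTData
import Cfsg.Agent.H504.ZerosG23
import Cfsg.Agent.S1059

/-!
# `OGMax` for `G₂(3)`, `G₂(4)` (helper834)

* `pgap_g23` : a proper subgroup of `G₂(3)` misses a prime or has order `1092`;
* `pgap_g24` : a proper subgroup of `G₂(4)` misses a prime;
* `ogMax_g23`, `ogMax_g24`.
-/

set_option autoImplicit false

namespace Cfsg.Agent.H834.Sax

open Subgroup Cfsg Cfsg.Lie Cfsg.Agent.H970.StabNum Cfsg.Agent.H251.Small Cfsg.Agent.H938.Sax
open Cfsg.Agent.OrdDiv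

/-- self-centralising subgroups of prime order from `HasT` -/
theorem selfcent_of_hasT {T : Type*} [Group T] [Finite T] {r : ℕ} (hr : r.Prime) (h : H719.HasT T r r) :
    ∃ R : Subgroup T, Nat.card R = r ∧ centralizer (R : Set T) = R := by
  obtain ⟨x, hx, h1⟩ := h
  have hx1 : x ≠ 1 := by
    rintro rfl
    rw [orderOf_one] at hx
    exact hr.one_lt.ne hx
  obtain ⟨hc, hk⟩ := h1 x (mem_zpowers x) hx1
  refine ⟨zpowers x, by rw [Nat.card_zpowers, hx], ?_⟩
  have hle : zpowers x ≤ centralizer ((zpowers x : Subgroup T) : Set T) := by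
    intro y hy
    rw [mem_centralizer_iff]
    intro z hz
    obtain ⟨i, rfl⟩ := mem_zpowers_iff.1 hy
    obtain ⟨j, rfl⟩ := mem_zpowers_iff.1 hz
    rw [← zpow_add, ← zpow_add, add_comm]
  have hle2 : centralizer ((zpowers x : Subgroup T) : Set T) ≤ centralizer ({x} : Set T) := by
    refine centralizer_le ?_
    rw [Set.singleton_subset_iff]
    exact mem_zpowers x
  have hcard : Nat.card (centralizer ({x} : Set T)) ∣ r := by
    obtain ⟨g, hg⟩ := hc.exists_generator
    rw [← orderOf_eq_card_of_forall_mem_zpowers hg, orderOf_dvd_iff_pow_eq_one]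
    apply Subtype.ext
    exact hk g (mem_centralizer_singleton_iff.1 g.2)
  refine (eq_of_le_of_card_ge hle ?_).symm
  rw [Nat.card_zpowers, hx]
  exact (Nat.le_of_dvd hr.pos ((card_dvd_of_le hle2).trans hcard))

variable {F : Type} [Field F] [Fintype F]

theorem card_g23 (hF : Fintype.card F = 3) : Nat.card ↥(chevG2.group F) = 4245696 := by
  rw [S1059.result hF]
  norm_num

theorem card_g24 (hF : Fintype.card F = 4) : Nat.card ↥(chevG2.group F) = 251596800 := by
  rw [S1059.result hF]
  norm_num

theorem sc13_g23 (hF : Fintype.card F = 3) :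
    ∃ R : Subgroup ↥(chevG2.group F), Nat.card R = 13 ∧ centralizer (R : Set ↥(chevG2.group F)) = R := by
  have hfin : Finite ↥(chevG2.group F) := Nat.finite_of_card_ne_zero (by rw [card_g23 hF]; norm_num)
  have h := H719.hasT_G2_3 (F := F) (q := 3) (N := 13) (Phi := 13) hF (by norm_num) (by norm_num)
  exact selfcent_of_hasT (by norm_num) h

theorem sc7_g23 (hF : Fintype.card F = 3) :
    ∃ R : Subgroup ↥(chevG2.group F), Nat.card R = 7 ∧ centralizer (R : Set ↥(chevG2.group F)) = R := by
  have hfin : Finite ↥(chevG2.group F) := Nat.finite_of_card_ne_zero (by rw [card_g23 hF]; norm_num)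
  have h := H719.hasT_G2_6 (F := F) (q := 3) (N := 7) (Phi := 7) hF (by norm_num) (by norm_num)
  exact selfcent_of_hasT (by norm_num) h

theorem sc13_g24 (hF : Fintype.card F = 4) :
    ∃ R : Subgroup ↥(chevG2.group F), Nat.card R = 13 ∧ centralizer (R : Set ↥(chevG2.group F)) = R := by
  have hfin : Finite ↥(chevG2.group F) := Nat.finite_of_card_ne_zero (by rw [card_g24 hF]; norm_num)
  have h := H719.hasT_G2_6 (F := F) (q := 4) (N := 13) (Phi := 13) hF (by norm_num) (by norm_num)
  exact selfcent_of_hasT (by norm_num) h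


section

variable (OT : OrderTable.{0}) (hS : ∀ (X : Type) [Group X] [Finite X] [IsSimpleGroup X], Cfsg.IsKnownSimple' X)

include OT hS

theorem data_g23 (hF : Fintype.card F = 3) :
    H970.StabNum.Data ↥(chevG2.group F) [(13, 1, 6), (7, 1, 6)] [2, 3, 7]
      ((cands [(2, 6), (3, 6), (7, 1), (13, 1)] 4245696).map ordN) := by
  have hcard := card_g23 hF
  have hfin : Finite ↥(chevG2.group F) := Nat.finite_of_card_ne_zero (by rw [hcard]; norm_num)
  refine H970.TwoSpor.mk_data OT hS hcard (l := [(2, 6), (3, 6), (7, 1), (13, 1)]) (by decide +kernel)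
    (by decide +kernel) ?_ ?_ (by decide +kernel) ?_
  · intro x hx
    simp only [List.mem_cons, List.not_mem_nil, or_false] at hx
    rcases hx with rfl | rfl <;> norm_num
  · intro r hr
    simp only [List.mem_cons, List.not_mem_nil, or_false] at hr
    rcases hr with rfl | rfl | rfl <;> norm_num
  · intro x hx P hP
    simp only [List.mem_cons, List.not_mem_nil, or_false] at hx
    rcases hx with rfl | rfl
    · refine cent_norm (by norm_num) (by rw [hcard]; norm_num) (sc13_g23 hF) ?_ P hP
      intro m hm _ hmod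
      rw [hcard] at hmod
      have h1 : m ∈ Nat.divisors 12 := Nat.mem_divisors.2 ⟨hm, by norm_num⟩
      rw [show Nat.divisors 12 = {1, 2, 3, 4, 6, 12} by decide] at h1
      simp only [Finset.mem_insert, Finset.mem_singleton] at h1
      rcases h1 with rfl | rfl | rfl | rfl | rfl | rfl
      all_goals first | (norm_num; done) | (exfalso; norm_num at hmod; done)
    · refine cent_norm (by norm_num) (by rw [hcard]; norm_num) (sc7_g23 hF) ?_ P hP
      intro m hm _ hmod
      rw [hcard] at hmod
      have h1 : m ∈ Nat.divisors 6 := Nat.mem_divisors.2 ⟨hm, by norm_num⟩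
      rw [show Nat.divisors 6 = {1, 2, 3, 6} by decide] at h1
      simp only [Finset.mem_insert, Finset.mem_singleton] at h1
      rcases h1 with rfl | rfl | rfl | rfl
      all_goals first | (norm_num; done) | (exfalso; norm_num at hmod; done)

theorem data_g24 (hF : Fintype.card F = 4) :
    H970.StabNum.Data ↥(chevG2.group F) [(13, 1, 6)] [2, 3, 5, 7]
      ((cands [(2, 12), (3, 3), (5, 2), (7, 1), (13, 1)] 251596800).map ordN) := by
  have hcard := card_g24 hF
  have hfin : Finite ↥(chevG2.group F) := Nat.finite_of_card_ne_zero (by rw [hcard]; norm_num)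
  refine H970.TwoSpor.mk_data OT hS hcard (l := [(2, 12), (3, 3), (5, 2), (7, 1), (13, 1)]) (by decide +kernel)
    (by decide +kernel) ?_ ?_ (by decide +kernel) ?_
  · intro x hx
    simp only [List.mem_cons, List.not_mem_nil, or_false] at hx
    subst hx
    norm_num
  · intro r hr
    simp only [List.mem_cons, List.not_mem_nil, or_false] at hr
    rcases hr with rfl | rfl | rfl | rfl <;> norm_num
  · intro x hx P hP
    simp only [List.mem_cons, List.not_mem_nil, or_false] at hx
    subst hx
    refine cent_norm (by norm_num) (by rw [hcard]; norm_num) (sc13_g24 hF) ?_ P hP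
    intro m hm _ hmod
    rw [hcard] at hmod
    have h1 : m ∈ Nat.divisors 12 := Nat.mem_divisors.2 ⟨hm, by norm_num⟩
    rw [show Nat.divisors 12 = {1, 2, 3, 4, 6, 12} by decide] at h1
    simp only [Finset.mem_insert, Finset.mem_singleton] at h1
    rcases h1 with rfl | rfl | rfl | rfl | rfl | rfl
    all_goals first | (norm_num; done) | (exfalso; norm_num at hmod; done)

/-- A proper subgroup of `G₂(3)` misses a prime or has order `1092`. -/
theorem pgap_g23 (hF : Fintype.card F = 3) (M : Subgroup ↥(chevG2.group F)) (hM : M ≠ ⊤) :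
    PGap ↥(chevG2.group F) M ∨ Nat.card M = 1092 := by
  have hcard := card_g23 hF
  have hfin : Finite ↥(chevG2.group F) := Nat.finite_of_card_ne_zero (by rw [hcard]; norm_num)
  have h := pgap_or_mem (data_g23 OT hS hF) (l := [(2, 6), (3, 6), (7, 1), (13, 1)]) (prs := [2, 3, 7, 13])
    (sl := [1092, 4245696]) hcard (by decide +kernel) (by
      intro r hr
      simp only [List.mem_cons, List.not_mem_nil, or_false] at hr
      rcases hr with rfl | rfl | rfl | rfl <;> norm_num) (by decide +kernel) M
  simp only [List.mem_cons, List.not_mem_nil, or_false] at h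
  rcases h with h | h | h
  · exact Or.inl h
  · exact Or.inr h
  · exact absurd (Subgroup.eq_top_of_card_eq M (by rw [h, hcard])) hM

/-- A proper subgroup of `G₂(4)` misses a prime. -/
theorem pgap_g24 (hF : Fintype.card F = 4) (M : Subgroup ↥(chevG2.group F)) (hM : M ≠ ⊤) :
    PGap ↥(chevG2.group F) M := by
  have hcard := card_g24 hF
  have hfin : Finite ↥(chevG2.group F) := Nat.finite_of_card_ne_zero (by rw [hcard]; norm_num)
  have h := pgap_or_mem (data_g24 OT hS hF) (l := [(2, 12), (3, 3), (5, 2), (7, 1), (13, 1)])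
    (prs := [2, 3, 5, 7, 13]) (sl := [251596800]) hcard (by decide +kernel) (by
      intro r hr
      simp only [List.mem_cons, List.not_mem_nil, or_false] at hr
      rcases hr with rfl | rfl | rfl | rfl | rfl <;> norm_num) (by decide +kernel) M
  simp only [List.mem_cons, List.not_mem_nil, or_false] at h
  rcases h with h | h
  · exact h
  · exact absurd (Subgroup.eq_top_of_card_eq M (by rw [h, hcard])) hM

omit OT hS in
theorem exists_four_g23 : ∃ g : ↥(chevG2.group (ZMod 3)), orderOf g = 4 := by
  have h := Cfsg.Agent.H92.ExcThree.ord_wel (i := 0) (t := 6) (by decide) (by decide) (by decide) (by decide) rfl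
  refine ⟨⟨_, Cfsg.Agent.ChevalleyStructure.Elts.nG_mem_group Cfsg.Agent.H92.ExcThree.hG2 7 1⟩, ?_⟩
  rw [Subgroup.orderOf_mk]
  exact h

theorem ogMax_g23 (hF : Fintype.card F = 3) : OGMax ↥(chevG2.group F) := by
  have e2 : F ≃+* ZMod 3 := FiniteField.ringEquivOfCardEq (by rw [hF, ZMod.card])
  refine OGMax.congr (Cfsg.Agent.ChevalleyStructure.FieldIso.groupEquiv chevG2 e2).symm ?_
  have hF3 : Fintype.card (ZMod 3) = 3 := ZMod.card 3
  have hcard := card_g23 hF3
  have hfin : Finite ↥(chevG2.group (ZMod 3)) := Nat.finite_of_card_ne_zero (by rw [hcard]; norm_num)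
  intro M hM
  rcases pgap_g23 OT hS hF3 M hM.1 with h | h
  · exact h.ordGap
  · obtain ⟨g, hg⟩ := exists_four_g23
    refine ordGap_of hg ?_
    refine no_order_two (k := 2) (data_g23 OT hS hF3) (l := [(2, 6), (3, 6), (7, 1), (13, 1)])
      (prs := [2, 3, 7, 13]) (by rw [hcard]; decide +kernel) M (by norm_num) h (by norm_num) ?_ (by decide +kernel)
    intro r hr
    simp only [List.mem_cons, List.not_mem_nil, or_false] at hr
    rcases hr with rfl | rfl | rfl | rfl <;> norm_num

theorem ogMax_g24 (hF : Fintype.card F = 4) : OGMax ↥(chevG2.group F) := by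
  have hfin : Finite ↥(chevG2.group F) := Nat.finite_of_card_ne_zero (by rw [card_g24 hF]; norm_num)
  exact fun M hM => (pgap_g24 OT hS hF M hM.1).ordGap

end

end Cfsg.Agent.H834.Sax
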