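import Cfsg.Agent.H834.Sax.Tool
import Cfsg.Agent.H503.El.L44
import Cfsg.Agent.H503.El.Om

/-!
# `L₃(4)`, `L₄(4)`, `L₇(2)`, `Ω⁻₈(2)`, `Ω⁺₁₀(2)`: every proper subgroup misses a prime (helper834)

From the data of helper503.
-/

set_option autoImplicit false

namespace Cfsg.Agent.H834.Sax

open Subgroup Cfsg Cfsg.Agent.H970.StabNum Cfsg.Agent.H251.Small Cfsg.Agent.H938.Sax
open Cfsg.Agent.OrdDiv Cfsg.Agent.H503.El

universe u

/-- one self-centralizing subgroup of prime order suffices -/
theorem pgap_of_ex {T : Type u} [Group T] [Finite T] [IsSimpleGroup T] (OT : OrdDiv.OrderTable.{u})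
    (hS : ∀ (X : Type u) [Group X] [Finite X] [IsSimpleGroup X], Cfsg.IsKnownSimple' X)
    {N p M : ℕ} {l : List (ℕ × ℕ)} {ps tbl : List ℕ} (hN : Nat.card T = N) (hp : p.Prime)
    (hp2 : ¬ p ^ 2 ∣ N) (hne : N ≠ p) (hM : okM N p 1 M = true)
    (hok : H503.El.allOk N l [(p, 1, M)] ps tbl = true) (hl : (l.all fun x => N % x.1 == 0) = true)
    (hs : surv [(p, 1, M)] ps tbl l (l.map Prod.fst) = [N])
    (h : ∃ R : Subgroup T, Nat.card R = p ∧ centralizer (R : Set T) = R)
    (R : Subgroup T) (hR : R ≠ ⊤) : PGap T R := by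
  have hv : OrdDiv.valid l N = true := by
    unfold H503.El.allOk at hok
    rw [Bool.and_eq_true] at hok
    exact hok.1
  have D : H970.StabNum.Data T [(p, 1, M)] ps tbl := H503.El.mk_data OT hS hN hok (fun x hx => by
    rw [List.mem_singleton] at hx
    subst hx
    exact entry_of_ex hp hN hp2 hne hM h)
  have h1 := pgap_or_mem D hN hv (prs := l.map Prod.fst) (fun r hr => by
    obtain ⟨x, hx, rfl⟩ := List.mem_map.1 hr
    rw [List.all_eq_true] at hl
    have h2 := hl x hx
    rw [beq_iff_eq] at h2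
    exact ⟨OrdDiv.valid_prime hv x hx, Nat.dvd_of_mod_eq_zero h2⟩) hs R
  rcases h1 with h1 | h1
  · exact h1
  · rw [List.mem_singleton] at h1
    exact absurd (Subgroup.eq_top_of_card_eq R (by rw [h1, hN])) hR

variable (OT : OrderTable.{0}) (hS : ∀ (X : Type) [Group X] [Finite X] [IsSimpleGroup X], Cfsg.IsKnownSimple' X)
  (F : Type) [Field F] [Fintype F]

include OT hS

set_option maxRecDepth 100000 in
theorem pgap_l34 (hF : Fintype.card F = 4) (R : Subgroup (Matrix.ProjectiveSpecialLinearGroup (Fin 3) F))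
    (hR : R ≠ ⊤) : PGap _ R := by
  haveI : IsSimpleGroup (Matrix.ProjectiveSpecialLinearGroup (Fin 3) F) := S0249.result 3 le_rfl
  haveI : Finite (Matrix.ProjectiveSpecialLinearGroup (Fin 3) F) :=
    Nat.finite_of_card_ne_zero (by rw [card_psl34 hF]; norm_num)
  exact pgap_of_ex OT hS (p := 5) (M := 2) (l := [(2, 6), (3, 2), (5, 1), (7, 1)]) (ps := [2, 3, 5, 7])
    (tbl := [60, 168, 360, 504, 2520, 20160]) (card_psl34 hF) (by norm_num) (by norm_num) (by norm_num)
    (by decide +kernel) (by decide +kernel) (by decide +kernel) (by decide +kernel)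
    (H809.SelfCent.psl_selfcent 3 4 5 (by simp) F hF) R hR

set_option maxRecDepth 100000 in
theorem pgap_l72 (hF : Fintype.card F = 2) (R : Subgroup (Matrix.ProjectiveSpecialLinearGroup (Fin 7) F))
    (hR : R ≠ ⊤) : PGap _ R := by
  haveI : IsSimpleGroup (Matrix.ProjectiveSpecialLinearGroup (Fin 7) F) := S0249.result 7 (by norm_num)
  haveI : Finite (Matrix.ProjectiveSpecialLinearGroup (Fin 7) F) :=
    Nat.finite_of_card_ne_zero (by rw [card_psl72 hF]; norm_num)
  exact pgap_of_ex OT hS (p := 127) (M := 7) (l := [(2, 21), (3, 4), (5, 1), (7, 2), (31, 1), (127, 1)])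
    (ps := [2, 3, 5, 7, 31, 127])
    (tbl := [60, 168, 360, 504, 2520, 6048, 14880, 20160, 25920, 181440, 1024128, 1451520, 9999360, 20158709760,
      163849992929280]) (card_psl72 hF) (by norm_num) (by norm_num) (by norm_num)
    (by decide +kernel) (by decide +kernel) (by decide +kernel) (by decide +kernel)
    (H809.SelfCent.psl_irred hF (by norm_num) (by norm_num) (by norm_num) (by norm_num) (by norm_num) (by norm_num)
      (by norm_num)) R hR

set_option maxRecDepth 100000 in
theorem pgap_l44 (hF : Fintype.card F = 4) (R : Subgroup (Matrix.ProjectiveSpecialLinearGroup (Fin 4) F))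
    (hR : R ≠ ⊤) : PGap _ R := by
  haveI : IsSimpleGroup (Matrix.ProjectiveSpecialLinearGroup (Fin 4) F) := S0249.result 4 (by norm_num)
  haveI : Finite (Matrix.ProjectiveSpecialLinearGroup (Fin 4) F) :=
    Nat.finite_of_card_ne_zero (by rw [card_psl44 hF]; norm_num)
  have hD : Data (Matrix.ProjectiveSpecialLinearGroup (Fin 4) F) [(7, 9, 54)] [2, 3, 5, 7, 17]
      [60, 168, 360, 504, 2448, 2520, 4080, 6048, 20160, 25920, 181440, 604800, 979200, 1451520, 1814400, 197406720,
        987033600] := by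
    refine H503.El.mk_data OT hS (l := [(2, 12), (3, 4), (5, 2), (7, 1), (17, 1)]) (card_psl44 hF) (by decide +kernel) ?_
    intro x hx
    rw [List.mem_singleton] at hx
    subst hx
    exact entry_of_sub (by norm_num) (card_psl44 hF) (by norm_num) (by norm_num) (by norm_num) (by decide +kernel)
      (cent_psl44 hF)
  have h := pgap_or_mem hD (l := [(2, 12), (3, 4), (5, 2), (7, 1), (17, 1)]) (card_psl44 hF) (by decide +kernel)
    (prs := [2, 3, 5, 7, 17]) (sl := [197406720, 987033600]) (by
      intro r hr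
      simp only [List.mem_cons, List.not_mem_nil, or_false] at hr
      rcases hr with rfl | rfl | rfl | rfl | rfl <;> norm_num) (by decide +kernel) R
  simp only [List.mem_cons, List.not_mem_nil, or_false] at h
  rcases h with h | h | h
  · exact h
  · exfalso
    have h2 := R.card_mul_index
    rw [h, card_psl44 hF] at h2
    have h3 : R.index = 5 := by omega
    have h4 := card_dvd_factorial R hR
    rw [h3, card_psl44 hF] at h4
    exact absurd h4 (by decide)
  · exact absurd (Subgroup.eq_top_of_card_eq R (by rw [h, card_psl44 hF])) hR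

set_option maxRecDepth 100000 in
theorem pgap_o8m (hF : Fintype.card F = 2) (a b : F)
    (hab : ∀ z₁ z₂ : F, z₁ ^ 2 + a * z₁ * z₂ + b * z₂ ^ 2 = 0 → z₁ = 0 ∧ z₂ = 0)
    (R : Subgroup (POmega F (quadFormMinus 3 F a b))) (hR : R ≠ ⊤) : PGap _ R := by
  haveI : IsSimpleGroup (POmega F (quadFormMinus 3 F a b)) := S0297.result 4 le_rfl a b hab
  haveI : Finite (POmega F (quadFormMinus 3 F a b)) :=
    Nat.finite_of_card_ne_zero (by rw [card_o8m hF a b hab]; norm_num)
  exact pgap_of_ex OT hS (p := 17) (M := 4) (l := [(2, 12), (3, 4), (5, 1), (7, 1), (17, 1)]) (ps := [2, 3, 5, 7, 17])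
    (tbl := [60, 168, 360, 504, 2448, 2520, 4080, 6048, 20160, 25920, 181440, 1451520, 197406720])
    (card_o8m hF a b hab) (by norm_num) (by norm_num) (by norm_num)
    (by decide +kernel) (by decide +kernel) (by decide +kernel) (by decide +kernel)
    (H732.SelfCent.omega8minus_selfcent hF a b hab) R hR

set_option maxRecDepth 100000 in
theorem pgap_o10p (hF : Fintype.card F = 2) (R : Subgroup (POmega F (quadFormPlus 5 F))) (hR : R ≠ ⊤) :
    PGap _ R := by
  haveI : IsSimpleGroup (POmega F (quadFormPlus 5 F)) := S0296.result 5 (by norm_num)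
  haveI : Finite (POmega F (quadFormPlus 5 F)) :=
    Nat.finite_of_card_ne_zero (by rw [card_o10p hF]; norm_num)
  exact pgap_of_ex OT hS (p := 31) (M := 5) (l := [(2, 20), (3, 5), (5, 2), (7, 1), (17, 1), (31, 1)])
    (ps := [2, 3, 5, 7, 17, 31])
    (tbl := [60, 168, 360, 504, 2448, 2520, 4080, 6048, 14880, 20160, 25920, 181440, 604800, 979200, 1451520, 1814400,
      9999360, 174182400, 197406720, 987033600, 47377612800, 23499295948800])
    (card_o10p hF) (by norm_num) (by norm_num) (by norm_num)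
    (by decide +kernel) (by decide +kernel) (by decide +kernel) (by decide +kernel)
    (H732.SelfCent.omega10plus_selfcent hF) R hR

theorem ogMax_l34 (hF : Fintype.card F = 4) : OGMax (Matrix.ProjectiveSpecialLinearGroup (Fin 3) F) := by
  haveI : Finite (Matrix.ProjectiveSpecialLinearGroup (Fin 3) F) :=
    Nat.finite_of_card_ne_zero (by rw [card_psl34 hF]; norm_num)
  exact fun M hM => (pgap_l34 OT hS F hF M hM.1).ordGap

theorem ogMax_l44 (hF : Fintype.card F = 4) : OGMax (Matrix.ProjectiveSpecialLinearGroup (Fin 4) F) := by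
  haveI : Finite (Matrix.ProjectiveSpecialLinearGroup (Fin 4) F) :=
    Nat.finite_of_card_ne_zero (by rw [card_psl44 hF]; norm_num)
  exact fun M hM => (pgap_l44 OT hS F hF M hM.1).ordGap

theorem ogMax_l72 (hF : Fintype.card F = 2) : OGMax (Matrix.ProjectiveSpecialLinearGroup (Fin 7) F) := by
  haveI : Finite (Matrix.ProjectiveSpecialLinearGroup (Fin 7) F) :=
    Nat.finite_of_card_ne_zero (by rw [card_psl72 hF]; norm_num)
  exact fun M hM => (pgap_l72 OT hS F hF M hM.1).ordGap

theorem ogMax_o8m (hF : Fintype.card F = 2) (a b : F)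
    (hab : ∀ z₁ z₂ : F, z₁ ^ 2 + a * z₁ * z₂ + b * z₂ ^ 2 = 0 → z₁ = 0 ∧ z₂ = 0) :
    OGMax (POmega F (quadFormMinus 3 F a b)) := by
  haveI : Finite (POmega F (quadFormMinus 3 F a b)) :=
    Nat.finite_of_card_ne_zero (by rw [card_o8m hF a b hab]; norm_num)
  exact fun M hM => (pgap_o8m OT hS F hF a b hab M hM.1).ordGap

theorem ogMax_o10p (hF : Fintype.card F = 2) : OGMax (POmega F (quadFormPlus 5 F)) := by
  haveI : Finite (POmega F (quadFormPlus 5 F)) :=
    Nat.finite_of_card_ne_zero (by rw [card_o10p hF]; norm_num)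
  exact fun M hM => (pgap_o10p OT hS F hF M hM.1).ordGap

end Cfsg.Agent.H834.Sax
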