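import Cfsg.Agent.H278.ElAsm
import Cfsg.Agent.H304.Psl3
import Cfsg.Agent.H304.PslRes
import Cfsg.Agent.H264.FKS.ResCore
import Cfsg.Agent.H264.FKS.Char
import Cfsg.Agent.H884.CxMain
import Cfsg.Agent.H834.Sax.Lin
import Cfsg.Agent.H834.Sax.Rest
import Cfsg.Agent.H834.Sax.PslTwo
import Cfsg.Agent.S0256

/-!
# `OGMax` for the linear groups (task 2616, for S2498 and S2528)

* `pgap_psl3`  : maximal subgroups of `PSL₃(q)` miss a prime (helper304);
* `pgap_psl`   : proper subgroups of `PSL_n(q)`, `n ≥ 4`, miss a prime, except for `L₄(2)`, `L₆(2)`;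
* `ogMax_psl`  : every maximal subgroup of a simple `PSL_n(q)` misses an element order.
-/

set_option autoImplicit false
set_option linter.style.haveILetI false

namespace Cfsg.Agent.H834.Sax

open Cfsg Cfsg.Geo Cfsg.Agent.OrdDiv Cfsg.Agent.H436 Cfsg.Agent.H264.FKS Cfsg.Agent.H915.GN
open Cfsg.Agent.H278.El.SporNum (IsCl exc)
open Cfsg.Agent.H278.El.AltNum (dimOf surv alt_main)
open Cfsg.Agent.H278.El.Asm (res_kill)
open Cfsg.Agent.H938.Sax (PGap OrdGap OGMax)
open scoped MatrixGroups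

theorem PGap.anti {T : Type*} [Group T] {M K : Subgroup T} (h : PGap T K) (hMK : M ≤ K) : PGap T M := by
  obtain ⟨r, hr, h1, h2⟩ := h
  exact ⟨r, hr, h1, fun h3 => h2 (h3.trans (Subgroup.card_dvd_of_le hMK))⟩

theorem pgap_of_max {T : Type*} [Group T] [Finite T] (h : ∀ M : Subgroup T, IsCoatom M → PGap T M)
    {M : Subgroup T} (hM : M ≠ ⊤) : PGap T M := by
  obtain ⟨K, hK, hMK⟩ := (eq_top_or_exists_le_coatom M).resolve_left hM
  exact PGap.anti (h K hK) hMK

/-- **`PSL₃(q)`**: proper subgroups miss a prime. -/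
theorem pgap_psl3 {F : Type*} [Field F] [Fintype F] {M : Subgroup (Matrix.ProjectiveSpecialLinearGroup (Fin 3) F)}
    (hM : M ≠ ⊤) : PGap (Matrix.ProjectiveSpecialLinearGroup (Fin 3) F) M := by
  have hfin : Finite (Matrix.ProjectiveSpecialLinearGroup (Fin 3) F) := Quotient.finite _
  exact pgap_of_max (fun K hK => H304.Psl3.miss hK) hM

theorem charP_of_dvd {F : Type} [Field F] [Fintype F] {p : ℕ} (hp : p.Prime) (h : p ∣ Fintype.card F) :
    CharP F p := by
  obtain ⟨r, hr⟩ := CharP.exists F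
  obtain ⟨n, hrp, hn⟩ := FiniteField.card F r
  rw [hn] at h
  have h1 : p = r := (Nat.prime_dvd_prime_iff_eq hp hrp).1 (hp.dvd_of_dvd_pow h)
  rw [h1]
  exact hr

/-- **`PSL_n(q)`, `n ≥ 4`**, except `L4(2)`, `L6(2)`, `L7(2)`, `L4(4)`. -/
theorem pgap_psl_gen (tab : OrderTable.{0}) (hK : ∀ (X : Type) [Group X] [Finite X] [IsSimpleGroup X],
    Cfsg.IsKnownSimple' X) {F : Type} [Field F] [Fintype F] {n : ℕ} (hn : 4 ≤ n)
    (h2 : ¬ (Fintype.card F = 2 ∧ (n = 4 ∨ n = 6 ∨ n = 7))) (h4 : ¬ (Fintype.card F = 4 ∧ n = 4))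
    {M : Subgroup (Matrix.ProjectiveSpecialLinearGroup (Fin n) F)} (hM : IsCoatom M) :
    PGap (Matrix.ProjectiveSpecialLinearGroup (Fin n) F) M := by
  obtain ⟨p, f, hp, hf, hpf⟩ := (isPrimePow_nat_iff _).1 (Fintype.isPrimePow_card_of_field (α := F))
  have hpF : p ∣ Fintype.card F := hpf ▸ dvd_pow_self p hf.ne'
  have hchar : CharP F p := charP_of_dvd hp hpF
  have hT : IsNamed (.psl n (Fintype.card F)) (Matrix.ProjectiveSpecialLinearGroup (Fin n) F) :=
    named_psl (F := F) (n := n) (by omega) (by omega)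
  have hfin : Finite (Matrix.ProjectiveSpecialLinearGroup (Fin n) F) := Quotient.finite _
  rcases H304.GeoL.geo (by omega) hM with h | ⟨h5, h6, -⟩ | ⟨P, hP, -⟩
  · exact h
  · exact absurd ⟨h5, .inr (.inl h6)⟩ h2
  · obtain ⟨S, hSn, hSs, hna, hC, ⟨e⟩⟩ := exists_socle
      (Matrix.SpecialLinearGroup.toGL (n := Fin n) (R := F)) H304.PslT.toGL_injective
      (H304.PslT.pr n F) (QuotientGroup.mk'_surjective _)
      (fun x => (QuotientGroup.eq_one_iff x).trans (H304.PslT.center_iff (by omega))) hP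
    obtain ⟨g, hg⟩ := exists_named tab (hK S) fun h => hna ⟨⟨h⟩⟩
    refine res_kill (p := p) hT (show 3 ≤ n by omega) ?_ ?_ S hC hg e (Fintype.card_fin n)
      (Q := PGap (Matrix.ProjectiveSpecialLinearGroup (Fin n) F) M) id ?_ ?_
    · simp only [surv, List.mem_cons, Grp.psl.injEq, reduceCtorEq, or_false, List.not_mem_nil, not_or]
      exact ⟨fun h => h2 ⟨h.2, .inl h.1⟩, by omega⟩
    · intro g' hg'
      simp only [exc, List.mem_cons, Prod.mk.injEq, Grp.psl.injEq, reduceCtorEq, and_false, or_false, false_or,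
        List.not_mem_nil] at hg'
      omega
    · exact fun hch => charRow_psl hp hpF hT hn h2 h4 M hM.1 S hSn hSs hna hC g hg hch
    · intro s hs hsp hch
      rcases H884.Cx.cross_row hp hT (show 3 ≤ n by omega) ⟨f, hpf.symm⟩ (Fintype.card_fin n) S hna hC hP.perfect e
        hs hsp hg hch with h | h
      · exact h
      · simp only [H884.Cx.excP, List.mem_cons, Prod.mk.injEq, Grp.psl.injEq, reduceCtorEq, and_false, false_and,
          or_false, false_or, List.not_mem_nil] at h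
        omega

/-- **`PSL_n(q)`, `n ≥ 3`**: proper subgroups miss a prime, except for `L4(2)`, `L6(2)`. -/
theorem pgap_psl (tab : OrderTable.{0}) (hK : ∀ (X : Type) [Group X] [Finite X] [IsSimpleGroup X],
    Cfsg.IsKnownSimple' X) {F : Type} [Field F] [Fintype F] {n : ℕ} (hn : 3 ≤ n)
    (h2 : ¬ (Fintype.card F = 2 ∧ (n = 4 ∨ n = 6))) {M : Subgroup (Matrix.ProjectiveSpecialLinearGroup (Fin n) F)}
    (hM : M ≠ ⊤) : PGap (Matrix.ProjectiveSpecialLinearGroup (Fin n) F) M := by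
  have hfin : Finite (Matrix.ProjectiveSpecialLinearGroup (Fin n) F) := Quotient.finite _
  rcases Nat.lt_or_ge n 4 with h | h
  · obtain rfl : n = 3 := by omega
    exact pgap_psl3 hM
  · by_cases h7 : Fintype.card F = 2 ∧ n = 7
    · obtain ⟨hF, rfl⟩ := h7
      exact pgap_l72 tab hK F hF M hM
    by_cases h4 : Fintype.card F = 4 ∧ n = 4
    · obtain ⟨hF, rfl⟩ := h4
      exact pgap_l44 tab hK F hF M hM
    exact pgap_of_max (fun K hK' => pgap_psl_gen tab hK h (by tauto) h4 hK') hM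

/-- **`OGMax` for `PSL_n(q)`, `n ≥ 2`.** -/
theorem ogMax_psl (tab : OrderTable.{0}) (hK : ∀ (X : Type) [Group X] [Finite X] [IsSimpleGroup X],
    Cfsg.IsKnownSimple' X) {T : Type} [Group T] [Finite T] {n q : ℕ} (hT : IsNamed (.psl n q) T) : OGMax T := by
  obtain ⟨F, i1, i2, hF, ⟨e⟩⟩ := hT.real
  have hc := hT.cond
  have hn2 : 2 ≤ n := hc.1
  have h24 : n = 2 → 4 ≤ q := hc.2.1
  refine OGMax.congr (T := Matrix.ProjectiveSpecialLinearGroup (Fin n) F) e.symm ?_
  rcases Nat.lt_or_ge n 3 with h | h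
  · obtain rfl : n = 2 := by omega
    exact ogMax_psl2 (by rw [hF]; exact h24 rfl)
  · by_cases h46 : Fintype.card F = 2 ∧ (n = 4 ∨ n = 6)
    · obtain ⟨hF2, rfl | rfl⟩ := h46
      · obtain ⟨e'⟩ := Cfsg.Agent.S0256.result hF2
        exact H938.Sax.Alt.ogMax_alt ⟨8, by norm_num, ⟨e'⟩⟩
      · exact ogMax_l62 tab hK hF2
    · have hfin : Finite (Matrix.ProjectiveSpecialLinearGroup (Fin n) F) := Quotient.finite _
      exact fun M hM => (pgap_psl tab hK h h46 hM.1).ordGap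

end Cfsg.Agent.H834.Sax
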